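/-
Certificate data of a coset enumeration.
-/
import Cfsg.Agent.Lib.CosetEnum.Basic

set_option autoImplicit false
set_option maxRecDepth 1000000

namespace CfsgLib.CosetEnum.J3HB

open CfsgLib.CosetEnum

/-- The packed facts. -/
def facts : Tree :=
  (.node (.leaf 0x200001e00001f0001d10001e0001c10001d0001b00001c0001a00001b0001910001a0001810001900017000018000160000170001510001600014100015000130000140001200001300011100012000101000110000f0000100000e00000f0000d10000e0000c10000d0000b00000c0000a00000b0000910000a000081000090000700000800006000007000051000060000410000500003000004000020000030000110000200000100001000000) (.leaf 0x20000211000210001f0))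

/-- The parents of the cosets. -/
def par : Tree :=
  (.leaf 0x1f00001e00001d10001c10001b00001a00001910001810001700001600001510001410001300001200001110001010000f00000e00000d10000c10000b00000a0000091000081000070000060000051000041000030000020000011000001000000000000)

/-- The packed words. -/
def words : Tree :=
  (.node (.node (.node (.leaf 0x2) (.leaf 0x101010101010101010101010101010101022)) (.leaf 0x11002)) (.node (.leaf 0x1010101010101010101010101010101010022) (.leaf 0x0)))

/-- The certificate. -/
def data : Data := ⟨2, facts, par, words, 0, 5⟩

/-- Representatives. -/
def rep : Tree :=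
  (.leaf 0x21000200001f0001e0001d0001c0001b0001a000190001800017000160001500014000130001200011000100000f0000e0000d0000c0000b0000a00009000080000700006000050000400003000020000100000)

/-- The rows of the table. -/
def tab : Tree :=
  (.node (.node (.node (.leaf 0x5000090000400008000070000300006000020000100005000000000400003000000000200001) (.leaf 0x200001f000210001e)) (.leaf 0x150001900014000180001700013000160001200011000150001000014000130000f000120000e)) (.node (.leaf 0xd000110000c000100000f0000b0000e0000a000090000d000080000c0000b000070000a00006) (.leaf 0x1d000210001c000200001f0001b0001e0001a000190001d000180001c0001b000170001a00016)))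

/-- The table. -/
def table : Table := ⟨34, rep, tab, .leaf 0⟩

/-- The relators. -/
def rels : List (List ℕ) := [[0, 0], [0, 1, 0, 1, 0, 1, 0, 1, 0, 1, 0, 1, 0, 1, 0, 1, 0, 1, 0, 1, 0, 1, 0, 1, 0, 1, 0, 1, 0, 1, 0, 1, 0, 1], [1, 1]]

/-- The words generating the subgroup. -/
def hw : List (List ℕ) := []

/-- The origin of the words. -/
def rots : List (ℕ × ℕ) := [(0, 0), (1, 0), (2, 0), (4, 0), (1, 1)]

/-- The generators. -/
def sel : List ℕ := [0, 1]

end CfsgLib.CosetEnum.J3HB
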