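/-
Certificate data of a coset enumeration.
-/
import Cfsg.Agent.Lib.CosetEnum.J3HB.Data

set_option autoImplicit false
set_option maxRecDepth 1000000

namespace CfsgLib.CosetEnum.J3HB

open CfsgLib.CosetEnum

/-- Justifications of the facts from 0. -/
def just0 : List ℕ := [0xfff, 0xfff, 0xfff, 0xfff, 0xfff, 0xfff, 0xfff, 0xfff, 0xfff, 0xfff, 0xfff, 0xfff, 0xfff, 0xfff, 0xfff, 0xfff, 0xfff, 0xfff, 0xfff, 0xfff, 0xfff, 0xfff, 0xfff, 0xfff, 0xfff, 0xfff, 0xfff, 0xfff, 0xfff, 0xfff, 0xfff, 0xfff, 0xfff, 0x1e0001c0001a00018000160001400012000100000e0000c0000a000080000600004000020000000001000030000500007000090000b0000d0000f00011000130001500017000190001b0001d0001f000200200010001f001001]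

theorem just0_ok : data.okChunk 0 just0 = true := by decide +kernel

theorem just0_len : just0.length = 34 := by decide +kernel

end CfsgLib.CosetEnum.J3HB
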